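import Mathlib

/-!
# Polynomial functions on `ZMod p` with values in a vector space

`IsPoly m f` : `f i = ∑ r < m, i ^ r • c r`.  If `m ≤ p - 1` the sum of all values is zero and the
coefficients are determined by the values (`Cf`).  Powers of unipotent elements are polynomial
functions, a one-parameter group is the exponential of its first coefficient.
-/

set_option autoImplicit false

namespace Cfsg.Agent.H750.MaxMod

open Finset

variable {p : ℕ} [hp : Fact p.Prime]

section Basic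

variable {W : Type*} [AddCommGroup W] [Module (ZMod p) W]

/-- A polynomial function of degree less than `m`. -/
def IsPoly (m : ℕ) (f : ZMod p → W) : Prop :=
  ∃ c : ℕ → W, ∀ i, f i = ∑ r ∈ range m, i ^ r • c r

/-- The coefficients of a polynomial function. -/
def Cf (r : ℕ) (f : ZMod p → W) : W := - ∑ i : (ZMod p)ˣ, ((i⁻¹ : (ZMod p)ˣ) : ZMod p) ^ r • f i

theorem IsPoly.mono {m n : ℕ} {f : ZMod p → W} (h : IsPoly m f) (hmn : m ≤ n) : IsPoly n f := by
  obtain ⟨c, hc⟩ := h
  refine ⟨fun r => if r < m then c r else 0, fun i => ?_⟩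
  rw [hc i]
  rw [← sum_subset (range_subset_range.2 hmn) (fun r _ hr => by
    beta_reduce
    rw [if_neg (by simpa using hr), smul_zero])]
  refine sum_congr rfl fun r hr => ?_
  beta_reduce
  rw [if_pos (mem_range.1 hr)]

theorem IsPoly.add {m : ℕ} {f g : ZMod p → W} (hf : IsPoly m f) (hg : IsPoly m g) :
    IsPoly m (fun i => f i + g i) := by
  obtain ⟨c, hc⟩ := hf
  obtain ⟨c', hc'⟩ := hg
  refine ⟨fun r => c r + c' r, fun i => ?_⟩
  simp only [hc, hc', smul_add, sum_add_distrib]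

theorem isPoly_zero (m : ℕ) : IsPoly m (fun _ : ZMod p => (0 : W)) :=
  ⟨fun _ => 0, fun i => by simp⟩

theorem isPoly_monomial {m r : ℕ} (hr : r < m) (w : W) : IsPoly m (fun i : ZMod p => i ^ r • w) := by
  refine ⟨fun s => if s = r then w else 0, fun i => ?_⟩
  rw [sum_eq_single r]
  · beta_reduce
    rw [if_pos rfl]
  · intro s _ hs
    beta_reduce
    rw [if_neg hs, smul_zero]
  · intro h
    exact absurd (mem_range.2 hr) h

theorem isPoly_const {m : ℕ} (hm : 0 < m) (w : W) : IsPoly m (fun _ : ZMod p => w) := by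
  have := isPoly_monomial (p := p) hm w
  simpa using this

theorem isPoly_sum {ι : Type*} (s : Finset ι) {m : ℕ} {f : ι → ZMod p → W}
    (h : ∀ j ∈ s, IsPoly m (f j)) : IsPoly m (fun i => ∑ j ∈ s, f j i) := by
  classical
  induction s using Finset.induction_on with
  | empty => simpa using isPoly_zero m
  | insert a s ha ih =>
    simp_rw [sum_insert ha]
    exact (h a (mem_insert_self _ _)).add (ih fun j hj => h j (mem_insert_of_mem hj))

variable {W' W'' : Type*} [AddCommGroup W'] [Module (ZMod p) W'] [AddCommGroup W'']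
  [Module (ZMod p) W'']

theorem IsPoly.map {m : ℕ} {f : ZMod p → W} (h : IsPoly m f) (L : W →ₗ[ZMod p] W') :
    IsPoly m (fun i => L (f i)) := by
  obtain ⟨c, hc⟩ := h
  refine ⟨fun r => L (c r), fun i => ?_⟩
  simp only [hc, map_sum, map_smul]

theorem IsPoly.bilin {m n l : ℕ} {f : ZMod p → W} {g : ZMod p → W'} (hf : IsPoly m f)
    (hg : IsPoly n g) (B : W →ₗ[ZMod p] W' →ₗ[ZMod p] W'') (hl : m + n ≤ l + 1) :
    IsPoly l (fun i => B (f i) (g i)) := by
  obtain ⟨c, hc⟩ := hf
  obtain ⟨c', hc'⟩ := hg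
  have h1 : (fun i => B (f i) (g i))
      = fun i => ∑ r ∈ range m, ∑ s ∈ range n, i ^ (r + s) • B (c r) (c' s) := by
    funext i
    rw [hc, hc']
    simp only [map_sum, LinearMap.sum_apply, map_smul, LinearMap.smul_apply, smul_sum, smul_smul,
      pow_add]
    rw [sum_comm]
    refine sum_congr rfl fun r _ => sum_congr rfl fun s _ => ?_
    rw [mul_comm]
  rw [h1]
  refine isPoly_sum _ fun r hr => isPoly_sum _ fun s hs => isPoly_monomial ?_ _
  have := mem_range.1 hr
  have := mem_range.1 hs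
  omega

theorem IsPoly.comp_mul {m : ℕ} {f : ZMod p → W} (h : IsPoly m f) (a : ZMod p) :
    IsPoly m (fun i => f (a * i)) := by
  obtain ⟨c, hc⟩ := h
  refine ⟨fun r => a ^ r • c r, fun i => ?_⟩
  beta_reduce
  rw [hc]
  refine sum_congr rfl fun r _ => ?_
  rw [smul_smul, mul_pow, mul_comm]

theorem sum_pow_units {r : ℕ} (hr : ¬ (p - 1) ∣ r) : ∑ i : (ZMod p)ˣ, (i : ZMod p) ^ r = 0 := by
  have := FiniteField.sum_pow_units (ZMod p) r
  rw [this, if_neg]
  rwa [ZMod.card]

theorem IsPoly.sum_eq_zero {m : ℕ} {f : ZMod p → W} (h : IsPoly m f) (hm : m ≤ p - 1) :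
    ∑ i : ZMod p, f i = 0 := by
  obtain ⟨c, hc⟩ := h
  simp_rw [hc]
  rw [sum_comm]
  refine Finset.sum_eq_zero fun r hr => ?_
  rw [← sum_smul]
  rw [FiniteField.sum_pow_lt_card_sub_one, zero_smul]
  rw [ZMod.card]
  exact lt_of_lt_of_le (mem_range.1 hr) hm

theorem cf_monomial {r s : ℕ} (hr : r < p - 1) (hs : s < p - 1) (w : W) :
    Cf r (fun i : ZMod p => i ^ s • w) = if s = r then w else 0 := by
  have key : ∀ i : (ZMod p)ˣ, (((i⁻¹ : (ZMod p)ˣ) : ZMod p) ^ r * (i : ZMod p) ^ s)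
      = (i : ZMod p) ^ (s + (p - 1 - r)) := by
    intro i
    have h1 : (i : ZMod p) ^ (p - 1) = 1 := ZMod.pow_card_sub_one_eq_one i.ne_zero
    have h2 : (i : ZMod p) ^ (p - 1 - r) = ((i⁻¹ : (ZMod p)ˣ) : ZMod p) ^ r := by
      have h3 : (i : ZMod p) ^ (p - 1 - r) * (i : ZMod p) ^ r = 1 := by
        rw [← pow_add, Nat.sub_add_cancel hr.le, h1]
      have h4 : ((i⁻¹ : (ZMod p)ˣ) : ZMod p) ^ r * (i : ZMod p) ^ r = 1 := by
        rw [← mul_pow, Units.inv_mul, one_pow]
      have h5 : (i : ZMod p) ^ r ≠ 0 := pow_ne_zero _ i.ne_zero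
      exact mul_right_cancel₀ h5 (h3.trans h4.symm)
    rw [pow_add, h2, mul_comm]
  unfold Cf
  simp_rw [smul_smul, key, ← sum_smul]
  by_cases h : s = r
  · subst h
    rw [if_pos rfl]
    have h1 : ∀ i : (ZMod p)ˣ, (i : ZMod p) ^ (s + (p - 1 - s)) = 1 := by
      intro i
      rw [Nat.add_sub_cancel' hr.le]
      exact ZMod.pow_card_sub_one_eq_one i.ne_zero
    simp_rw [h1]
    rw [sum_const, card_univ, ZMod.card_units_eq_totient, Nat.totient_prime hp.out, nsmul_eq_mul,
      mul_one, Nat.cast_sub hp.out.one_le, Nat.cast_one, CharP.cast_eq_zero, zero_sub, neg_smul,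
      one_smul, neg_neg]
  · rw [if_neg h, sum_pow_units, zero_smul, neg_zero]
    intro hdvd
    obtain ⟨k, hk⟩ := hdvd
    rcases Nat.lt_or_ge k 1 with h1 | h1
    · interval_cases k
      omega
    · rcases Nat.lt_or_ge k 2 with h2 | h2
      · interval_cases k
        omega
      · have : (p - 1) * 2 ≤ (p - 1) * k := Nat.mul_le_mul_left _ h2
        omega

theorem cf_sum {ι : Type*} (s : Finset ι) (r : ℕ) (f : ι → ZMod p → W) :
    Cf r (fun i => ∑ j ∈ s, f j i) = ∑ j ∈ s, Cf r (f j) := by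
  unfold Cf
  simp_rw [smul_sum]
  rw [sum_comm, sum_neg_distrib]

theorem cf_add (r : ℕ) (f g : ZMod p → W) :
    Cf r (fun i => f i + g i) = Cf r f + Cf r g := by
  unfold Cf
  simp_rw [smul_add, sum_add_distrib, neg_add]

theorem cf_map (r : ℕ) (f : ZMod p → W) (L : W →ₗ[ZMod p] W') :
    Cf r (fun i => L (f i)) = L (Cf r f) := by
  unfold Cf
  simp only [map_neg, map_sum, map_smul]

theorem cf_eq {m r : ℕ} {f : ZMod p → W} {c : ℕ → W}
    (hc : ∀ i, f i = ∑ s ∈ range m, i ^ s • c s) (hm : m ≤ p - 1) (hr : r < p - 1) :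
    Cf r f = if r < m then c r else 0 := by
  have h1 : f = fun i => ∑ s ∈ range m, i ^ s • c s := funext hc
  rw [h1, cf_sum]
  rw [sum_congr rfl fun s hs => cf_monomial (p := p) hr
    (lt_of_lt_of_le (mem_range.1 hs) hm) (c s)]
  rw [sum_ite_eq']
  simp only [mem_range]

theorem IsPoly.eq {m : ℕ} {f : ZMod p → W} (h : IsPoly m f) (hm : m ≤ p - 1) (i : ZMod p) :
    f i = ∑ r ∈ range m, i ^ r • Cf r f := by
  obtain ⟨c, hc⟩ := h
  rw [hc i]
  refine sum_congr rfl fun r hr => ?_
  rw [cf_eq hc hm (lt_of_lt_of_le (mem_range.1 hr) hm), if_pos (mem_range.1 hr)]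

theorem IsPoly.cf_eq_zero {m r : ℕ} {f : ZMod p → W} (h : IsPoly m f) (hm : m ≤ r)
    (hr : r < p - 1) : Cf r f = 0 := by
  obtain ⟨c, hc⟩ := h
  rw [cf_eq hc (by omega) hr, if_neg (by omega)]

theorem cf_comp_mul (r : ℕ) (f : ZMod p → W) (a : (ZMod p)ˣ) :
    Cf r (fun i : ZMod p => f ((a : ZMod p) * i)) = (a : ZMod p) ^ r • Cf r f := by
  unfold Cf
  rw [smul_neg, smul_sum, neg_inj]
  refine Fintype.sum_equiv (Equiv.mulLeft a) _ _ fun i => ?_
  rw [Equiv.coe_mulLeft, Units.val_mul, smul_smul, mul_inv_rev, Units.val_mul, mul_pow,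
    mul_comm (_ ^ r) (((a⁻¹ : (ZMod p)ˣ) : ZMod p) ^ r), ← mul_assoc, ← mul_pow, Units.mul_inv,
    one_pow, one_mul]

theorem IsPoly.at_zero {m : ℕ} {f : ZMod p → W} (h : IsPoly m f) (hm : m ≤ p - 1) (hm0 : 0 < m) :
    f 0 = Cf 0 f := by
  rw [h.eq hm 0, sum_eq_single 0]
  · rw [pow_zero, one_smul]
  · intro r _ hr
    rw [zero_pow hr, zero_smul]
  · intro h
    exact absurd (mem_range.2 hm0) h

/-- The Leibniz rule for the first coefficient. -/
theorem cf_one_bilin {m n : ℕ} {f : ZMod p → W} {g : ZMod p → W'} (hf : IsPoly m f)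
    (hg : IsPoly n g) (B : W →ₗ[ZMod p] W' →ₗ[ZMod p] W'') (hp3 : 3 ≤ p) (hm : 0 < m) (hn : 0 < n)
    (hl : m + n ≤ p) :
    Cf 1 (fun i => B (f i) (g i)) = B (Cf 1 f) (g 0) + B (f 0) (Cf 1 g) := by
  have hf' := hf.eq (by omega)
  have hg' := hg.eq (by omega)
  have h1 : (fun i => B (f i) (g i))
      = fun i => ∑ r ∈ range m, ∑ s ∈ range n, i ^ (r + s) • B (Cf r f) (Cf s g) := by
    funext i
    conv_lhs => rw [hf' i, hg' i]
    simp only [map_sum, LinearMap.sum_apply, map_smul, LinearMap.smul_apply, smul_sum, smul_smul,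
      pow_add]
    rw [sum_comm]
    refine sum_congr rfl fun r _ => sum_congr rfl fun s _ => ?_
    rw [mul_comm]
  rw [h1, cf_sum]
  simp_rw [cf_sum]
  have h2 : ∀ r ∈ range m, ∀ s ∈ range n,
      Cf 1 (fun i : ZMod p => i ^ (r + s) • B (Cf r f) (Cf s g))
        = if r + s = 1 then B (Cf r f) (Cf s g) else 0 := by
    intro r hr s hs
    have := mem_range.1 hr
    have := mem_range.1 hs
    exact cf_monomial (by omega) (by omega) _
  rw [sum_congr rfl fun r hr => sum_congr rfl fun s hs => h2 r hr s hs]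
  rw [hf.at_zero (by omega) hm, hg.at_zero (by omega) hn]
  have h3 : ∀ r ∈ range m, ∑ s ∈ range n, (if r + s = 1 then B (Cf r f) (Cf s g) else 0)
      = (if r = 1 then B (Cf 1 f) (Cf 0 g) else 0) + (if r = 0 then B (Cf 0 f) (Cf 1 g) else 0) := by
    intro r _
    rcases Nat.lt_or_ge r 2 with hr2 | hr2
    · interval_cases r
      · simp only [zero_add, if_true, zero_ne_one, if_false]
        rw [sum_ite_eq']
        split_ifs with h
        · rfl
        · have h' : n ≤ 1 := by simpa using h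
          rw [hg.cf_eq_zero h' (by omega), map_zero]
      · simp only [if_true, one_ne_zero, if_false, add_zero]
        rw [sum_eq_single 0]
        · simp
        · intro s _ hs
          rw [if_neg (by omega)]
        · intro h
          exact absurd (mem_range.2 hn) h
    · rw [if_neg (by omega), if_neg (by omega), add_zero]
      refine Finset.sum_eq_zero fun s _ => ?_
      rw [if_neg (by omega)]
  rw [sum_congr rfl h3, sum_add_distrib, sum_ite_eq', sum_ite_eq', if_pos (mem_range.2 hm)]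
  congr 1
  split_ifs with h
  · rfl
  · have h' : m ≤ 1 := by simpa using h
    rw [hf.cf_eq_zero h' (by omega), map_zero, LinearMap.zero_apply]

end Basic

end Cfsg.Agent.H750.MaxMod
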