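import Cfsg.Agent.H750.MaxMod.Poly

/-!
# Powers of unipotent elements are polynomial functions; the exponential formula
-/

set_option autoImplicit false

namespace Cfsg.Agent.H750.MaxMod

open Finset

variable {p : ℕ} [hp : Fact p.Prime]

theorem sum_range_eq {W : Type*} [AddCommMonoid W] (g : ℕ → W) :
    ∑ i ∈ range p, g i = ∑ i : ZMod p, g i.val := by
  refine sum_bij' (fun i _ => (i : ZMod p)) (fun i _ => i.val) ?_ ?_ ?_ ?_ ?_
  · intro i _; exact mem_univ _
  · intro i _; exact mem_range.2 (ZMod.val_lt i)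
  · intro i hi; exact ZMod.val_cast_of_lt (mem_range.1 hi)
  · intro i _; exact ZMod.natCast_zmod_val i
  · intro i hi; rw [ZMod.val_cast_of_lt (mem_range.1 hi)]

theorem isPoly_choose (r : ℕ) (hr : r < p) :
    IsPoly (r + 1) (fun i : ZMod p => ((i.val.choose r : ℕ) : ZMod p)) := by
  induction r with
  | zero =>
    simp only [Nat.choose_zero_right, Nat.cast_one]
    exact isPoly_const one_pos _
  | succ r ih =>
    have h1 : IsPoly 2 (fun i : ZMod p => i - (r : ZMod p)) := by
      refine ⟨fun s => if s = 0 then - (r : ZMod p) else 1, fun i => ?_⟩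
      rw [sum_range_succ, sum_range_one]
      simp
      ring
    have h2 := ((ih (by omega)).bilin h1 (LinearMap.mul (ZMod p) (ZMod p)) (l := r + 1 + 1)
      (by omega)).map (LinearMap.mulLeft (ZMod p) (((r + 1 : ℕ) : ZMod p)⁻¹))
    have h3 : ((r + 1 : ℕ) : ZMod p) ≠ 0 := by
      intro h
      rw [ZMod.natCast_eq_zero_iff] at h
      exact absurd (Nat.le_of_dvd (by omega) h) (by omega)
    convert h2 using 2 with i
    simp only [LinearMap.mul_apply', LinearMap.mulLeft_apply]
    rw [eq_inv_mul_iff_mul_eq₀ h3]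
    have h4 := Nat.choose_succ_right_eq i.val r
    have h5 : ((i.val.choose (r + 1) : ℕ) : ZMod p) * ((r + 1 : ℕ) : ZMod p)
        = ((i.val.choose r : ℕ) : ZMod p) * ((i.val - r : ℕ) : ZMod p) := by
      rw [← Nat.cast_mul, h4, Nat.cast_mul]
    rw [mul_comm, h5]
    rcases Nat.lt_or_ge i.val r with h6 | h6
    · rw [Nat.choose_eq_zero_of_lt h6]; simp
    · rw [Nat.cast_sub h6, ZMod.natCast_zmod_val]

/-- Powers of a unipotent element are polynomial functions of the exponent. -/
theorem isPoly_pow_smul {A W : Type*} [Ring A] [Algebra (ZMod p) A] [AddCommGroup W]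
    [Module (ZMod p) W] [Module A W] [IsScalarTower (ZMod p) A W] (X : A) (u : W) {m : ℕ}
    (hm : m ≤ p) (h : (X - 1) ^ m • u = 0) : IsPoly m (fun i : ZMod p => X ^ i.val • u) := by
  have h1 : ∀ n : ℕ, X ^ n • u = ∑ r ∈ range m, ((n.choose r : ℕ) : ZMod p) • ((X - 1) ^ r • u) := by
    intro n
    have h2 : X ^ n = ∑ r ∈ range (n + 1), ((n.choose r : ℕ) : A) * (X - 1) ^ r := by
      conv_lhs => rw [show X = (X - 1) + 1 by abel]
      rw [(Commute.one_right (X - 1)).add_pow]
      refine sum_congr rfl fun r _ => ?_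
      rw [one_pow, mul_one]
      exact ((Nat.cast_commute _ _)).symm.eq
    have h3 : ∀ r, m ≤ r → (X - 1) ^ r • u = 0 := by
      intro r hr
      rw [← Nat.sub_add_cancel hr, pow_add, mul_smul, h, smul_zero]
    rw [h2, sum_smul]
    have h4 : ∀ r, (((n.choose r : ℕ) : A) * (X - 1) ^ r) • u
        = ((n.choose r : ℕ) : ZMod p) • ((X - 1) ^ r • u) := by
      intro r
      rw [mul_smul]
      rw [Nat.cast_smul_eq_nsmul, Nat.cast_smul_eq_nsmul]
    simp_rw [h4]
    rcases le_total m (n + 1) with h5 | h5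
    · symm
      refine sum_subset (range_subset_range.2 h5) fun r _ hr => ?_
      rw [h3 r (by simpa using hr), smul_zero]
    · refine sum_subset (range_subset_range.2 h5) fun r _ hr => ?_
      rw [Nat.choose_eq_zero_of_lt (by simpa using hr), Nat.cast_zero, zero_smul]
  simp_rw [h1]
  refine isPoly_sum _ fun r hr => ?_
  have hr' := mem_range.1 hr
  exact ((isPoly_choose (p := p) r (by omega)).map
    (LinearMap.toSpanSingleton (ZMod p) W ((X - 1) ^ r • u))).mono (by omega)

/-- **The exponential formula** for a polynomial one-parameter group. -/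
theorem cf_exp {A : Type*} [Ring A] [Algebra (ZMod p) A] {Φ : ZMod p → A} {m : ℕ}
    (hadd : ∀ i j, Φ (i + j) = Φ i * Φ j) (h0 : Φ 0 = 1) (h : IsPoly m Φ) (hm : m ≤ p - 1)
    (hm0 : 0 < m) (hp3 : 3 ≤ p) (r : ℕ) (hr : r < p - 1) :
    ((r.factorial : ℕ) : ZMod p) • Cf r Φ = (Cf 1 Φ) ^ r := by
  have hΦ := h.eq hm
  have hc0 : Cf 0 Φ = 1 := by rw [← h.at_zero hm hm0, h0]
  -- the shifted function
  have hshift : ∀ (n : ℕ) (_ : n < p - 1) (j : ZMod p) (w : A),
      Cf 1 (fun i : ZMod p => (i + j) ^ n • w) = ((n : ZMod p) * j ^ (n - 1)) • w := by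
    intro n hn j w
    have h1 : (fun i : ZMod p => (i + j) ^ n • w)
        = fun i => ∑ s ∈ range (n + 1), i ^ s • ((j ^ (n - s) * (n.choose s : ZMod p)) • w) := by
      funext i
      rw [add_pow, sum_smul]
      refine sum_congr rfl fun s _ => ?_
      rw [smul_smul, mul_assoc]
    rw [h1, cf_sum, sum_congr rfl fun s hs => cf_monomial (p := p) (r := 1) (s := s) (by omega)
      (by have := mem_range.1 hs; omega) _, sum_ite_eq']
    split_ifs with h2
    · rw [Nat.choose_one_right, mul_comm]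
    · have : n = 0 := by
        have h3 : ¬ (1 < n + 1) := fun h => h2 (mem_range.2 h)
        omega
      subst this
      simp
  have hder : ∀ j : ZMod p, Cf 1 Φ * Φ j = ∑ n ∈ range m, ((n : ZMod p) * j ^ (n - 1)) • Cf n Φ := by
    intro j
    have h1 : Cf 1 (fun i => Φ (i + j)) = Cf 1 Φ * Φ j := by
      simp_rw [hadd]
      exact cf_map 1 Φ (LinearMap.mulRight (ZMod p) (Φ j))
    rw [← h1]
    simp_rw [hΦ]
    rw [cf_sum]
    exact sum_congr rfl fun n hn => by
      rw [hshift n (by have := mem_range.1 hn; omega) j _]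
  -- compare coefficients
  have hrec : ∀ s, s + 1 < p - 1 → ((s + 1 : ℕ) : ZMod p) • Cf (s + 1) Φ = Cf 1 Φ * Cf s Φ := by
    intro s hs
    have h1 : Cf s (fun j => Cf 1 Φ * Φ j) = Cf 1 Φ * Cf s Φ :=
      cf_map s Φ (LinearMap.mulLeft (ZMod p) (Cf 1 Φ))
    rw [← h1]
    simp_rw [hder]
    rw [cf_sum]
    have h2 : ∀ n ∈ range m, Cf s (fun j : ZMod p => ((n : ZMod p) * j ^ (n - 1)) • Cf n Φ)
        = if n = s + 1 then ((s + 1 : ℕ) : ZMod p) • Cf (s + 1) Φ else 0 := by
      intro n hn
      have hn' := mem_range.1 hn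
      have h3 : (fun j : ZMod p => ((n : ZMod p) * j ^ (n - 1)) • Cf n Φ)
          = fun j : ZMod p => j ^ (n - 1) • ((n : ZMod p) • Cf n Φ) := by
        funext j
        rw [smul_smul, mul_comm]
      rw [h3, cf_monomial (by omega) (by omega)]
      rcases Nat.eq_zero_or_pos n with rfl | hpos
      · simp
      · by_cases h4 : n = s + 1
        · subst h4; simp
        · rw [if_neg (by omega), if_neg h4]
    rw [sum_congr rfl h2, sum_ite_eq']
    split_ifs with h4
    · rfl
    · rw [h.cf_eq_zero (by simpa using h4) hs, smul_zero]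
  induction r with
  | zero => rw [Nat.factorial_zero, Nat.cast_one, one_smul, pow_zero, hc0]
  | succ r ih =>
    rw [Nat.factorial_succ, Nat.cast_mul, mul_comm, mul_smul, hrec r hr, pow_succ', ← ih (by omega),
      mul_smul_comm]

end Cfsg.Agent.H750.MaxMod
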