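import Mathlib

/-!
# The relative trace for a strongly p-embedded subgroup

`H` is a subgroup of the finite group `G`, `x ∈ H` has prime order `p` and `x` fixes only the coset
`H` in `G / H`.  If `w` is fixed by `H` then `w` plus some norm `∑ i < p, x ^ i ψ` is fixed by `G`.
-/

set_option autoImplicit false

namespace Cfsg.Agent.H750.MaxMod

open Finset

theorem sum_eq_norm_of_invariant {Ω V : Type*} [AddCommGroup V] {p : ℕ} (hp : p.Prime)
    (σ : Ω → Ω) (hσ : ∀ ω, σ^[p] ω = ω) (T : V →+ V) (φ : Ω → V) (hφ : ∀ ω, φ (σ ω) = T (φ ω)) :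
    ∀ (n : ℕ) (s : Finset Ω), s.card = n → (∀ ω ∈ s, σ ω ∈ s) → (∀ ω ∈ s, σ ω ≠ ω) →
      ∃ ψ : V, ∑ ω ∈ s, φ ω = ∑ i ∈ range p, (T : V → V)^[i] ψ := by
  classical
  intro n
  induction n using Nat.strong_induction_on with
  | _ n ih =>
    intro s hn hs hf
    rcases s.eq_empty_or_nonempty with rfl | ⟨ω₀, hω₀⟩
    · refine ⟨0, ?_⟩
      simp only [sum_empty]
      symm
      apply sum_eq_zero
      intro i _
      exact Function.iterate_fixed (map_zero T) i
    · have hper : Function.IsPeriodicPt σ p ω₀ := hσ ω₀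
      have hmin : Function.minimalPeriod σ ω₀ = p := by
        have h1 := hper.minimalPeriod_dvd
        rcases (Nat.dvd_prime hp).1 h1 with h2 | h2
        · exact absurd (Function.minimalPeriod_eq_one_iff_isFixedPt.1 h2) (hf ω₀ hω₀)
        · exact h2
      have hinj : Set.InjOn (fun i => σ^[i] ω₀) (Set.Iio p) := by
        have := Function.iterate_injOn_Iio_minimalPeriod (f := σ) (x := ω₀)
        rwa [hmin] at this
      set O : Finset Ω := (range p).image (fun i => σ^[i] ω₀) with hO
      have hiter : ∀ i, σ^[i] ω₀ ∈ s := by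
        intro i
        induction i with
        | zero => exact hω₀
        | succ i ih => rw [Function.iterate_succ_apply']; exact hs _ ih
      have hOs : O ⊆ s := by
        intro ω hω
        obtain ⟨i, _, rfl⟩ := mem_image.1 hω
        exact hiter i
      have hω₀O : ω₀ ∈ O := mem_image.2 ⟨0, mem_range.2 hp.pos, rfl⟩
      have hφi : ∀ i, φ (σ^[i] ω₀) = (T : V → V)^[i] (φ ω₀) := by
        intro i
        induction i with
        | zero => rfl
        | succ i ih =>
          rw [Function.iterate_succ_apply', Function.iterate_succ_apply', hφ, ih]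
      have hsumO : ∑ ω ∈ O, φ ω = ∑ i ∈ range p, (T : V → V)^[i] (φ ω₀) := by
        rw [hO, sum_image]
        · exact sum_congr rfl fun i _ => hφi i
        · intro i hi j hj hij
          exact hinj (by simpa using hi) (by simpa using hj) hij
      have hback : ∀ ω, σ ω ∈ O → ω ∈ O := by
        intro ω hω
        obtain ⟨i, hi, hiω⟩ := mem_image.1 hω
        have h1 : ω = σ^[p - 1] (σ ω) := by
          rw [← Function.iterate_succ_apply, Nat.succ_eq_add_one, Nat.sub_add_cancel hp.one_le, hσ]
        have h2 : ω = σ^[p - 1 + i] ω₀ := by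
          rw [h1, ← hiω, Function.iterate_add_apply]
        rw [h2]
        refine mem_image.2 ⟨(p - 1 + i) % p, mem_range.2 (Nat.mod_lt _ hp.pos), ?_⟩
        exact hper.iterate_mod_apply _
      obtain ⟨ψ, hψ⟩ := ih (s \ O).card (by
          rw [← hn]
          apply card_lt_card
          rw [ssubset_iff_subset_ne]
          refine ⟨sdiff_subset, fun h => ?_⟩
          have : ω₀ ∈ s \ O := by rw [h]; exact hω₀
          exact (mem_sdiff.1 this).2 hω₀O) (s \ O) rfl
        (by
          intro ω hω
          rw [mem_sdiff] at hω ⊢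
          exact ⟨hs _ hω.1, fun h => hω.2 (hback _ h)⟩)
        (by
          intro ω hω
          exact hf ω (mem_sdiff.1 hω).1)
      refine ⟨ψ + φ ω₀, ?_⟩
      rw [← sum_sdiff hOs, hψ, hsumO, ← sum_add_distrib]
      refine sum_congr rfl fun i _ => ?_
      have := iterate_map_add T i ψ (φ ω₀)
      exact this.symm

variable {G : Type*} [Group G] [Finite G] {k V : Type*} [CommRing k] [AddCommGroup V] [Module k V]

/-- **The relative trace.** -/
theorem exists_fixed_add_norm (ρ : G →* Module.End k V) (H : Subgroup G) (x : G) {p : ℕ}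
    (hp : p.Prime) (hx : orderOf x = p) (hxH : x ∈ H) (hse : ∀ g : G, g⁻¹ * x * g ∈ H → g ∈ H)
    (w : V) (hw : ∀ h ∈ H, ρ h w = w) :
    ∃ ψ : V, ∀ g : G, ρ g (w + ∑ i ∈ range p, (ρ x ^ i) ψ) = w + ∑ i ∈ range p, (ρ x ^ i) ψ := by
  classical
  have : Fintype (G ⧸ H) := Fintype.ofFinite _
  let φ : G ⧸ H → V := fun q => Quotient.liftOn' q (fun g => ρ g w) (by
    intro a b hab
    have h1 : a⁻¹ * b ∈ H := QuotientGroup.leftRel_apply.1 hab
    show ρ a w = ρ b w
    have h2 := hw _ h1
    have h3 : ρ b w = ρ a (ρ (a⁻¹ * b) w) := by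
      rw [← Module.End.mul_apply, ← map_mul, mul_inv_cancel_left]
    rw [h3, h2])
  have hφmk : ∀ g : G, φ (QuotientGroup.mk g) = ρ g w := fun g => rfl
  have hφ : ∀ (g : G) (q : G ⧸ H), φ (g • q) = ρ g (φ q) := by
    intro g q
    induction q using QuotientGroup.induction_on with
    | H a =>
      rw [MulAction.Quotient.smul_mk, hφmk, smul_eq_mul, map_mul, Module.End.mul_apply]
      rfl
  have htot : ∀ g : G, ρ g (∑ q : G ⧸ H, φ q) = ∑ q : G ⧸ H, φ q := by
    intro g
    rw [map_sum]
    simp_rw [← hφ]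
    exact Equiv.sum_comp (MulAction.toPerm g) φ
  have hsplit : ∑ q : G ⧸ H, φ q = w + ∑ q ∈ univ.erase (QuotientGroup.mk 1 : G ⧸ H), φ q := by
    rw [← add_sum_erase _ _ (mem_univ (QuotientGroup.mk 1 : G ⧸ H))]
    congr 1
    rw [hφmk, map_one]; rfl
  have hx1 : x • (QuotientGroup.mk 1 : G ⧸ H) = QuotientGroup.mk 1 := by
    rw [MulAction.Quotient.smul_mk, smul_eq_mul, mul_one]
    rw [QuotientGroup.eq]
    simpa using H.inv_mem hxH
  have hfix : ∀ q : G ⧸ H, x • q = q → q = QuotientGroup.mk 1 := by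
    intro q
    induction q using QuotientGroup.induction_on with
    | H a =>
      intro h
      rw [MulAction.Quotient.smul_mk, smul_eq_mul, QuotientGroup.eq] at h
      have h1 : a⁻¹ * x * a ∈ H := by
        have := H.inv_mem h
        simpa [mul_assoc] using this
      rw [QuotientGroup.eq]
      simpa using H.inv_mem (hse a h1)
  have hiter : ∀ (i : ℕ) (q : G ⧸ H), (fun q => x • q)^[i] q = x ^ i • q := by
    intro i
    induction i with
    | zero => intro q; simp
    | succ i ih =>
      intro q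
      rw [Function.iterate_succ_apply', ih, pow_succ', mul_smul]
  obtain ⟨ψ, hψ⟩ := sum_eq_norm_of_invariant hp (fun q : G ⧸ H => x • q)
    (by
      intro q
      rw [hiter, ← hx, pow_orderOf_eq_one, one_smul]) (ρ x).toAddMonoidHom φ
    (by intro q; exact hφ x q) _ (univ.erase (QuotientGroup.mk 1 : G ⧸ H)) rfl
    (by
      intro q hq
      rw [mem_erase] at hq ⊢
      refine ⟨fun h => hq.1 ?_, mem_univ _⟩
      have h' : x • q = QuotientGroup.mk 1 := h
      rw [← hx1] at h'
      exact smul_left_cancel _ h')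
    (by
      intro q hq h
      exact (mem_erase.1 hq).1 (hfix q h))
  refine ⟨ψ, fun g => ?_⟩
  have hnorm : ∑ i ∈ range p, (ρ x ^ i) ψ
      = ∑ i ∈ range p, ((ρ x).toAddMonoidHom : V → V)^[i] ψ := by
    refine sum_congr rfl fun i _ => ?_
    rw [Module.End.pow_apply]
    rfl
  rw [hnorm, ← hψ, ← hsplit]
  exact htot g

end Cfsg.Agent.H750.MaxMod
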